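import Cfsg.Agent.Lib.ChevStructure.BN

/-! Bruhat normal form with uniqueness, and fixed points of ring endomorphisms. -/

set_option autoImplicit false
set_option linter.unusedSectionVars false

open Cfsg.Lie Cfsg.Agent.Lib.ChevStructure
open scoped MatrixGroups
open DoubleCoset

namespace Cfsg.Agent.Lib.ChevFixed.Basic

variable {D : ChevalleyDatum}

/-- The positive roots sent to negative roots. -/
def invSet (C : Core D) (σ : Equiv.Perm (Rt D)) : Set (Rt D) := {r | r ∈ C.Pos ∧ σ r ∈ C.Neg}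

variable {C : Core D} (H : CommOK C) {F : Type*} [Field F]
include H

/-- `U` is the product of any two groups of root subgroups covering the positive roots. -/
theorem exists_split {A B : Set (Rt D)} (hA : A ⊆ C.Pos) (hcov : C.Pos ⊆ A ∪ B) {u : GL D.Idx F}
    (hu : u ∈ C.US F C.Pos) : ∃ a ∈ C.US F A, ∃ b ∈ C.US F B, u = a * b := by
  have _ := hA
  -- the roots of index at least `m`
  let I : ℕ → Set (Rt D) := fun m => {s | s ∈ C.Pos ∧ m ≤ s.val}
  have hnorm : ∀ m, ∀ r ∈ C.Pos, ∀ t : F,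
      C.X F r t ∈ Subgroup.normalizer (C.US F (I m) : Set (GL D.Idx F)) := by
    intro m r hr t
    refine H.mem_normalizer ⟨fun h => (C.neg_iff_not_pos _).1 (C.rev_neg hr) h.1, ?_⟩ t
    intro s hs _ q i j hi hj hv
    have h1 := C.ht_combo hv
    have h2 := C.ht_pos hr
    have h3 := C.ht_pos hs.1
    have h4 : C.ht s < C.ht q := by
      nlinarith [(Int.ofNat_le.mpr hi : ((1 : ℕ) : ℤ) ≤ i), (Int.ofNat_le.mpr hj : ((1 : ℕ) : ℤ) ≤ j)]
    refine ⟨(C.pos_iff_ht q).2 (by omega), ?_⟩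
    have := Fin.lt_def.1 (C.lt_of_ht_lt h4)
    have := hs.2
    omega
  have main : ∀ m, ∃ a ∈ C.US F A, ∃ b ∈ C.US F B, ∃ r ∈ C.US F (I m), u = a * r * b := by
    intro m
    induction m with
    | zero =>
      refine ⟨1, one_mem _, 1, one_mem _, u, C.US_mono F (show C.Pos ⊆ I 0 from fun s hs => ⟨hs, Nat.zero_le _⟩) hu, by simp⟩
    | succ m ih =>
      obtain ⟨a, ha, b, hb, r, hr, rfl⟩ := ih
      by_cases hm : ∃ s : Rt D, s ∈ C.Pos ∧ s.val = m
      · obtain ⟨s, hs, hsm⟩ := hm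
        have hsplit : C.US F (I m) ≤ C.US F {s} ⊔ C.US F (I (m + 1)) := by
          refine (Subgroup.closure_le _).2 ?_
          rintro y ⟨q, ⟨hq, hqm⟩, t, rfl⟩
          by_cases hqs : q = s
          · exact Subgroup.mem_sup_left (C.X_mem_US F (S := {s}) hqs t)
          · refine Subgroup.mem_sup_right (C.X_mem_US F (S := I (m + 1)) ⟨hq, ?_⟩ t)
            have : q.val ≠ s.val := fun h => hqs (Fin.ext h)
            omega
        have hn : C.US F {s} ≤ Subgroup.normalizer (C.US F (I (m + 1)) : Set (GL D.Idx F)) := by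
          refine (Subgroup.closure_le _).2 ?_
          rintro y ⟨q, hq, t, rfl⟩
          rw [Set.mem_singleton_iff] at hq
          exact hnorm _ q (hq ▸ hs) t
        have hr' := hsplit hr
        rw [← SetLike.mem_coe, Subgroup.coe_mul_of_left_le_normalizer_right _ _ hn, Set.mem_mul] at hr'
        obtain ⟨x, hx, r', hr', rfl⟩ := hr'
        rcases hcov hs with hsA | hsB
        · exact ⟨a * x, mul_mem ha (C.US_mono F (Set.singleton_subset_iff.2 hsA) hx), b, hb, r', hr', by group⟩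
        · refine ⟨a, ha, x * b, mul_mem (C.US_mono F (Set.singleton_subset_iff.2 hsB) hx) hb,
            x * r' * x⁻¹, (Subgroup.mem_normalizer_iff.1 (hn hx) r').1 hr', by group⟩
      · refine ⟨a, ha, b, hb, r, C.US_mono F (show I m ⊆ I (m + 1) from fun q hq => ⟨hq.1, ?_⟩) hr, rfl⟩
        have : q.val ≠ m := fun h => hm ⟨q, hq.1, h⟩
        have := hq.2
        omega
  obtain ⟨a, ha, b, hb, r, hr, rfl⟩ := main D.nroots
  refine ⟨a, ha, b, hb, ?_⟩
  have : r ∈ (⊥ : Subgroup (GL D.Idx F)) := by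
    refine (Subgroup.closure_le _).2 ?_ hr
    rintro y ⟨q, hq, -⟩
    exact absurd hq.2 (Nat.not_le.2 q.isLt)
  rw [Subgroup.mem_bot.1 this, mul_one]

/-- Bruhat normal form. -/
theorem exists_normalForm {g : GL D.Idx F} (hg : g ∈ D.group F) :
    ∃ (v : GL D.Idx F) (c : Fin D.rank → Fˣ) (L : List (Fin D.rank)) (u : GL D.Idx F),
      v ∈ C.US F C.Pos ∧ u ∈ C.US F (invSet C (C.pprod L)) ∧ g = v * C.HT F c * C.wprod F L * u := by
  obtain ⟨n, hn, hgn⟩ := H.exists_bruhat hg
  obtain ⟨a, ha, b, hb, rfl⟩ := mem_doubleCoset.1 hgn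
  obtain ⟨v, hv, k, hk, rfl⟩ := C.mem_borel_iff.1 ha
  obtain ⟨v', hv', k', hk', rfl⟩ := C.mem_borel_iff.1 hb
  set m := k * n * k' with hm_def
  set v'' := k'⁻¹ * v' * k' with hv''_def
  have hv'' : v'' ∈ C.US F C.Pos :=
    (Subgroup.mem_normalizer_iff.1 (inv_mem (C.diag_le_normalizer C.Pos hk')) v').1 hv' |> fun h => by
      simpa [hv''_def] using h
  have hgm : v * k * n * (v' * k') = v * m * v'' := by
    simp only [hm_def, hv''_def, mul_assoc, mul_inv_cancel_left]
  obtain ⟨c, L, hL⟩ := C.exists_word_monomial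
    (show m ∈ D.monomialSubgroup F from mul_mem (mul_mem (Subgroup.mem_sup_left hk) hn) (Subgroup.mem_sup_left hk'))
  obtain ⟨x, hx, u, hu, hxu⟩ := exists_split H (A := {r | r ∈ C.Pos ∧ C.pprod L r ∈ C.Pos})
    (B := invSet C (C.pprod L)) (fun r hr => hr.1)
    (fun r hr => (em (C.pprod L r ∈ C.Pos)).elim (fun h => Or.inl ⟨hr, h⟩)
      (fun h => Or.inr ⟨hr, (C.neg_iff_not_pos _).2 h⟩)) hv''
  have hact : C.Acts m (C.pprod L) := hL ▸ C.acts_HT_wprod F c L
  have hx' : m * x * m⁻¹ ∈ C.US F C.Pos := C.conj_mem_US F hact (fun r hr => hr.2) hx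
  refine ⟨v * (m * x * m⁻¹), c, L, u, mul_mem hv hx', hu, ?_⟩
  rw [hgm, hxu, mul_assoc _ (C.HT F c) (C.wprod F L), ← hL]
  group

omit H in
/-- Uniqueness of the right factor. -/
theorem normalForm_unique {n : GL D.Idx F} {L : List (Fin D.rank)} (hn : C.Acts n (C.pprod L))
    {b b' u u' : GL D.Idx F} (hb : b ∈ D.borelSubgroup F) (hb' : b' ∈ D.borelSubgroup F)
    (hu : u ∈ C.US F (invSet C (C.pprod L))) (hu' : u' ∈ C.US F (invSet C (C.pprod L)))
    (e : b * n * u = b' * n * u') : u = u' ∧ b = b' := by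
  have h1 : n * (u * u'⁻¹) * n⁻¹ ∈ C.US F C.Neg :=
    C.conj_mem_US F hn (fun r hr => hr.2) (mul_mem hu (inv_mem hu'))
  have h2 : n * (u * u'⁻¹) * n⁻¹ = b⁻¹ * b' := by
    calc n * (u * u'⁻¹) * n⁻¹ = b⁻¹ * (b * n * u) * u'⁻¹ * n⁻¹ := by group
      _ = b⁻¹ * (b' * n * u') * u'⁻¹ * n⁻¹ := by rw [e]
      _ = _ := by group
  have h3 : b⁻¹ * b' = 1 := by
    rw [← Subgroup.mem_bot, ← C.borel_inf_negUS]
    exact Subgroup.mem_inf.2 ⟨mul_mem (inv_mem hb) hb', h2 ▸ h1⟩
  rw [h3, conj_eq_one_iff, mul_inv_eq_one] at h2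
  exact ⟨h2, inv_mul_eq_one.1 h3⟩

section Frob

variable (f : F →+* F)

omit H in
theorem map_HT (c : Fin D.rank → Fˣ) :
    Matrix.GeneralLinearGroup.map f (C.HT F c) = C.HT F (fun j => Units.map f.toMonoidHom (c j)) := by
  apply Units.ext
  ext a b
  rw [Matrix.GeneralLinearGroup.map_apply]
  rcases a with a | a <;> rcases b with b | b <;>
    simp [Core.HT, Core.diag, Matrix.diagonal_apply, map_prod, apply_ite f]

omit H in
theorem map_wprod (L : List (Fin D.rank)) :
    Matrix.GeneralLinearGroup.map f (C.wprod F L) = C.wprod F L := by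
  rw [Core.wprod, map_list_prod, List.map_map]
  refine congrArg List.prod (List.map_congr_left fun i _ => ?_)
  simp only [Function.comp_apply, Core.P, Core.nR, map_mul, C.X_map]
  simp

omit H in
theorem map_mem_US {S : Set (Rt D)} {u : GL D.Idx F} (hu : u ∈ C.US F S) :
    Matrix.GeneralLinearGroup.map f u ∈ C.US F S := by
  induction hu using Subgroup.closure_induction with
  | mem x hx =>
    obtain ⟨r, hr, t, rfl⟩ := hx
    rw [C.X_map]
    exact C.X_mem_US F hr _
  | one => rw [map_one]; exact one_mem _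
  | mul x y _ _ hx hy => rw [map_mul]; exact mul_mem hx hy
  | inv x _ hx => rw [map_inv]; exact inv_mem hx

/-- A fixed element of `U` is a product of fixed root elements. -/
theorem fixed_posUS {u : GL D.Idx F} (hu : u ∈ C.US F C.Pos)
    (hfix : Matrix.GeneralLinearGroup.map f u = u) :
    u ∈ Subgroup.closure {x | ∃ (r : Rt D) (t : F), f t = t ∧ x = C.X F r t} := by
  obtain ⟨t, ht⟩ := H.exists_posWord F hu
  have hmap : Matrix.GeneralLinearGroup.map f u = C.wordX F C.posL (fun r => f (t r)) := by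
    rw [ht, Core.wordX, map_list_prod, List.map_map, Core.wordX]
    exact congrArg List.prod (List.map_congr_left fun r _ => by simp [C.X_map])
  have huniq := C.wordX_unique F C.posL_sorted (fun q hq => C.mem_posL.1 hq)
    (hmap.symm.trans (hfix.trans ht))
  rw [ht]
  refine list_prod_mem fun g hg => ?_
  rw [List.mem_map] at hg
  obtain ⟨r, hr, rfl⟩ := hg
  exact Subgroup.subset_closure ⟨r, t r, huniq r hr, rfl⟩

/-- A fixed element is, up to fixed root elements, a fixed torus element. -/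
theorem fixed_group {g : GL D.Idx F} (hg : g ∈ D.group F)
    (hfix : Matrix.GeneralLinearGroup.map f g = g) :
    ∃ a ∈ Subgroup.closure {x | ∃ (r : Rt D) (t : F), f t = t ∧ x = C.X F r t},
      ∃ b ∈ Subgroup.closure {x | ∃ (r : Rt D) (t : F), f t = t ∧ x = C.X F r t},
      ∃ c : Fin D.rank → Fˣ, Matrix.GeneralLinearGroup.map f (C.HT F c) = C.HT F c ∧
        g = a * C.HT F c * b := by
  obtain ⟨v, c, L, u, hv, hu, rfl⟩ := exists_normalForm H hg
  have hB : ∀ {v : GL D.Idx F} (c : Fin D.rank → Fˣ), v ∈ C.US F C.Pos → v * C.HT F c ∈ D.borelSubgroup F :=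
    fun c hv => mul_mem (C.posUS_le_borel hv) (C.diagonal_le_borel (C.HT_mem_diagonal c))
  rw [map_mul, map_mul, map_mul, map_HT, map_wprod] at hfix
  obtain ⟨hu', hb⟩ := normalForm_unique (C.acts_wprod F L) (hB _ (map_mem_US f hv)) (hB c hv)
    (map_mem_US f hu) hu hfix
  -- separate `U` and `H`
  have hk : (v⁻¹ * Matrix.GeneralLinearGroup.map f v) = C.HT F c * (C.HT F fun j => Units.map f.toMonoidHom (c j))⁻¹ := by
    rw [eq_mul_inv_iff_mul_eq, mul_assoc, hb, inv_mul_cancel_left]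
  have h1 : v⁻¹ * Matrix.GeneralLinearGroup.map f v = 1 := by
    rw [← Subgroup.mem_bot, ← C.US_inf_diagonal]
    refine Subgroup.mem_inf.2 ⟨mul_mem (inv_mem hv) (map_mem_US f hv), ?_⟩
    rw [hk]
    exact mul_mem (C.HT_mem_diagonal c) (inv_mem (C.HT_mem_diagonal _))
  have hcfix : Matrix.GeneralLinearGroup.map f (C.HT F c) = C.HT F c := by
    rw [h1, eq_comm, mul_inv_eq_one] at hk
    rw [map_HT, ← hk]
  have hvfix : Matrix.GeneralLinearGroup.map f v = v := (inv_mul_eq_one.1 h1).symm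
  have hw : C.wprod F L ∈ Subgroup.closure {x | ∃ (r : Rt D) (t : F), f t = t ∧ x = C.X F r t} := by
    refine list_prod_mem fun g hg => ?_
    rw [List.mem_map] at hg
    obtain ⟨i, -, rfl⟩ := hg
    refine mul_mem (mul_mem ?_ ?_) ?_ <;> refine Subgroup.subset_closure ⟨_, _, ?_, rfl⟩ <;> simp
  refine ⟨v, fixed_posUS H f hv hvfix, C.wprod F L * u,
    mul_mem hw (fixed_posUS H f (C.US_mono F (fun r hr => hr.1) hu) hu'), c, hcfix, by group⟩

/-- Fixed torus elements normalise the group of fixed root elements. -/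
theorem fixed_torus_conj {c : Fin D.rank → Fˣ}
    (hc : Matrix.GeneralLinearGroup.map f (C.HT F c) = C.HT F c) {x : GL D.Idx F}
    (hx : x ∈ Subgroup.closure {x | ∃ (r : Rt D) (t : F), f t = t ∧ x = C.X F r t}) :
    C.HT F c * x * (C.HT F c)⁻¹ ∈ Subgroup.closure {x | ∃ (r : Rt D) (t : F), f t = t ∧ x = C.X F r t} := by
  have hχ : ∀ r, f (C.chA c r : F) = (C.chA c r : F) := by
    intro r
    have := congrArg (fun g : GL D.Idx F => (g : Matrix D.Idx D.Idx F) (Sum.inr r) (Sum.inr r)) hc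
    simpa [Matrix.GeneralLinearGroup.map_apply, Core.HT, Core.diag, Core.chA] using this
  have hle : Subgroup.closure {x | ∃ (r : Rt D) (t : F), f t = t ∧ x = C.X F r t} ≤
      (Subgroup.closure {x | ∃ (r : Rt D) (t : F), f t = t ∧ x = C.X F r t}).comap
        (MulAut.conj (C.HT F c)).toMonoidHom := by
    refine (Subgroup.closure_le _).2 ?_
    rintro y ⟨r, t, ht, rfl⟩
    rw [SetLike.mem_coe, Subgroup.mem_comap, MulEquiv.coe_toMonoidHom, MulAut.conj_apply, C.HT_X_conj]
    exact Subgroup.subset_closure ⟨r, _, by rw [map_mul, ht, hχ], rfl⟩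
  have := hle hx
  rwa [Subgroup.mem_comap, MulEquiv.coe_toMonoidHom, MulAut.conj_apply] at this

end Frob

/-- Only the identity commutes with all the `x_r(1)`. -/
theorem eq_one_of_commute {g : GL D.Idx F} (hg : g ∈ D.group F)
    (h : ∀ r, Commute g (C.X F r 1)) : g = 1 := by
  obtain ⟨v, c, L, u, hv, hu, rfl⟩ := exists_normalForm H hg
  have hvc : v * C.HT F c ∈ D.borelSubgroup F :=
    mul_mem (C.posUS_le_borel hv) (C.diagonal_le_borel (C.HT_mem_diagonal c))
  by_cases hL : C.pprod L = 1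
  · obtain ⟨d, hd⟩ := C.wprod_eq_HT_of_pprod_eq_one F hL
    have hu1 : u = 1 := by
      rw [← Subgroup.mem_bot]
      refine (Subgroup.closure_le _).2 ?_ hu
      rintro y ⟨r, ⟨hr, hr'⟩, -⟩
      rw [hL, Equiv.Perm.one_apply] at hr'
      exact absurd hr ((C.neg_iff_not_pos _).1 hr')
    rw [hd, hu1, mul_one, mul_assoc, C.HT_mul] at h ⊢
    generalize c * d = e at h ⊢
    obtain ⟨M, -, hMV⟩ := C.exists_opposition (F := F)
    have hP : ∀ i, Commute (v * C.HT F e) (C.P F i) := fun i => by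
      have h1 := h (C.p i)
      have h2 := h (C.p i).rev
      have e1 : C.X F (C.p i).rev (-((↑(1 : Fˣ)⁻¹ : F))) = (C.X F (C.p i).rev 1)⁻¹ := by simp [C.X_inv]
      rw [Core.P, Core.nR, Units.val_one, e1]
      exact (h1.mul_right h2.inv_right).mul_right h1
    have hw : Commute (v * C.HT F e) (C.wprod F M) := Commute.list_prod_right _ _ fun g hg => by
      rw [List.mem_map] at hg
      obtain ⟨i, -, rfl⟩ := hg
      exact hP i
    obtain ⟨e', he'⟩ := C.wprod_HT F M e
    set w := C.wprod F M with hw_def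
    have hconj : w * v * w⁻¹ * C.HT F e' = v * C.HT F e := by
      have h4 : C.HT F e' = w * C.HT F e * w⁻¹ := by rw [he']; group
      rw [h4, show w * v * w⁻¹ * (w * C.HT F e * w⁻¹) = w * (v * C.HT F e) * w⁻¹ by group, ← hw.eq,
        mul_inv_cancel_right]
    have hneg : w * v * w⁻¹ ∈ C.US F C.Neg := by
      rw [← hMV]; exact ⟨v, hv, rfl⟩
    have h5 : w * v * w⁻¹ = 1 := by
      rw [← Subgroup.mem_bot, ← C.borel_inf_negUS]
      refine Subgroup.mem_inf.2 ⟨?_, hneg⟩
      rw [eq_mul_inv_of_mul_eq hconj]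
      exact mul_mem (mul_mem (C.posUS_le_borel hv) (C.diagonal_le_borel (C.HT_mem_diagonal _)))
        (inv_mem (C.diagonal_le_borel (C.HT_mem_diagonal _)))
    rw [conj_eq_one_iff] at h5
    rw [h5, one_mul] at h ⊢
    have hχ : ∀ r, C.chA e r = 1 := fun r => by
      have h6 := C.HT_X_conj F e r 1
      rw [(h r).eq, mul_inv_cancel_right, mul_one] at h6
      have h7 : C.X F r ((C.chA e r : F) - 1) = 1 := by
        rw [sub_eq_add_neg, ← C.X_add, ← C.X_inv, ← h6, mul_inv_cancel]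
      exact Units.ext (sub_eq_zero.1 (C.X_eq_one h7))
    rw [Core.HT, ← C.diag_one F]
    congr 1
    funext s
    exact hχ s
  · exfalso
    obtain ⟨i, hi⟩ := C.exists_descent hL
    have hux : u * C.X F (C.p i) 1 ∈ C.US F (invSet C (C.pprod L)) :=
      mul_mem hu (C.X_mem_US F (S := invSet C (C.pprod L)) ⟨C.p_pos i, hi⟩ 1)
    have e : (C.X F (C.p i) 1 * (v * C.HT F c)) * C.wprod F L * u =
        (v * C.HT F c) * C.wprod F L * (u * C.X F (C.p i) 1) := by
      have := (h (C.p i)).eq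
      simp only [mul_assoc] at this ⊢
      exact this.symm
    obtain ⟨h1, -⟩ := normalForm_unique (C.acts_wprod F L)
      (mul_mem (C.X_mem_borel (C.p_pos i) 1) hvc) hvc hu hux e
    rw [left_eq_mul] at h1
    exact one_ne_zero (C.X_eq_one h1)

end Cfsg.Agent.Lib.ChevFixed.Basic
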