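import Cfsg.Agent.Lib.ChevStructure.BN

/-!
The refined Bruhat form `g = b * n_w * v` with `v` in the subgroup of the inversion set of `w`, its
uniqueness for a fixed representative, and the normaliser of U.
-/

set_option autoImplicit false
set_option linter.unusedSectionVars false

namespace Cfsg.Agent.Lib.ChevFixed

open Cfsg.Lie Cfsg.Agent.Lib.ChevStructure DoubleCoset
open scoped MatrixGroups Matrix

variable {D : ChevalleyDatum} {C : Core D} (H : CommOK C) {F : Type*} [Field F]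

theorem pprod_mem_inv'_step (L : List (Fin D.rank)) {i : Fin D.rank}
    (hi : C.pprod L (C.p i) ∈ C.Pos) {r : Rt D} (hr : r ∈ C.inv' (C.pprod L)) :
    C.w i r ∈ C.inv' (C.pprod (L ++ [i])) := by
  have hne : r ≠ C.p i := fun he => (C.neg_iff_not_pos _).1 hr.2 (he ▸ hi)
  refine ⟨C.w_pos hr.1 hne, ?_⟩
  rw [C.pprod_concat, Equiv.Perm.mul_apply, C.sref_apply, C.w_w]
  exact hr.2

include H

theorem wprod_mul_US : ∀ (n : ℕ) (L : List (Fin D.rank)), L.length = n → ∀ v ∈ C.US F C.Pos,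
    ∃ a ∈ D.borelSubgroup F, ∃ v' ∈ C.US F (C.inv' (C.pprod L)),
      C.wprod F L * v = a * C.wprod F L * v' := by
  intro n
  induction n using Nat.strong_induction_on with
  | _ n ih =>
  intro L hL v hv
  rcases List.eq_nil_or_concat L with rfl | ⟨L', i, hLeq⟩
  · exact ⟨v, C.posUS_le_borel hv, 1, one_mem _, by simp [Core.wprod]⟩
  rw [List.concat_eq_append] at hLeq
  subst hLeq
  have hlen : L'.length < n := by rw [← hL, List.length_append]; simp
  by_cases hi : C.pprod L' (C.p i) ∈ C.Pos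
  · obtain ⟨b, hb, t, rfl⟩ := H.exists_split_p i hv
    have hP : C.Acts (C.P F i) (C.sref i) := by
      simpa [Core.wprod, Core.pprod] using C.acts_wprod F [i]
    have hb' : C.P F i * b * (C.P F i)⁻¹ ∈ C.US F C.Pos :=
      C.conj_mem_US F hP (fun r hr => (C.w_posBut hr).1) hb
    obtain ⟨a, ha, v', hv', e⟩ := ih L'.length hlen L' rfl _ hb'
    have hv'' : (C.P F i)⁻¹ * v' * C.P F i ∈ C.US F (C.inv' (C.pprod (L' ++ [i]))) := by
      have h := C.conj_mem_US F (C.acts_inv F hP) (T := C.inv' (C.pprod (L' ++ [i])))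
        (fun r hr => ?_) hv'
      · rwa [inv_inv] at h
      · rw [inv_eq_of_mul_eq_one_right (C.sref_mul_self i), C.sref_apply]
        exact pprod_mem_inv'_step L' hi hr
    have hp : C.p i ∈ C.inv' (C.pprod (L' ++ [i])) := by
      refine ⟨C.p_pos i, ?_⟩
      rw [C.pprod_concat, Equiv.Perm.mul_apply, C.sref_apply, C.w_p, C.pprod_rev]
      exact C.rev_neg hi
    refine ⟨a, ha, (C.P F i)⁻¹ * v' * C.P F i * C.X F (C.p i) t,
      mul_mem hv'' (C.X_mem_US F hp t), ?_⟩
    have hw : C.wprod F (L' ++ [i]) = C.wprod F L' * C.P F i := by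
      rw [C.wprod_append]; simp [Core.wprod]
    rw [hw]
    calc C.wprod F L' * C.P F i * (b * C.X F (C.p i) t)
        = C.wprod F L' * (C.P F i * b * (C.P F i)⁻¹) * (C.P F i * C.X F (C.p i) t) := by group
      _ = a * C.wprod F L' * v' * (C.P F i * C.X F (C.p i) t) := by rw [e]
      _ = _ := by group
  · obtain ⟨L'', c, hl, hw, hp⟩ := C.exchange F L' i ((C.neg_iff_not_pos _).2 hi)
    obtain ⟨a, ha, v', hv', e⟩ := ih L''.length (by omega) L'' rfl v hv
    have hw' : C.wprod F (L' ++ [i]) = C.HT F c * C.wprod F L'' := by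
      rw [C.wprod_append, ← hw]; simp [Core.wprod]
    have hc : C.HT F c ∈ D.borelSubgroup F := C.diagonal_le_borel (C.HT_mem_diagonal c)
    refine ⟨C.HT F c * a * (C.HT F c)⁻¹, mul_mem (mul_mem hc ha) (inv_mem hc), v', ?_, ?_⟩
    · rw [C.pprod_concat, hp]; exact hv'
    · rw [hw', mul_assoc, e]; group

/-- Every element of G is `b * wprod L * v` with `v` in the group of the inversion set. -/
theorem exists_form {g : GL D.Idx F} (hg : g ∈ D.group F) :
    ∃ (L : List (Fin D.rank)), ∃ b ∈ D.borelSubgroup F, ∃ v ∈ C.US F (C.inv' (C.pprod L)),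
      g = b * C.wprod F L * v := by
  obtain ⟨n, hn, hgn⟩ := H.exists_bruhat hg
  obtain ⟨x, hx, y, hy, rfl⟩ := mem_doubleCoset.1 hgn
  obtain ⟨c, L, rfl⟩ := C.exists_word_monomial hn
  obtain ⟨u, hu, k, hk, rfl⟩ := C.mem_borel_iff.1 hy
  obtain ⟨d, rfl⟩ := C.mem_diagonal_iff.1 hk
  obtain ⟨d', hd'⟩ := C.wprod_HT F L d
  have hu' : (C.HT F d)⁻¹ * u * C.HT F d ∈ C.US F C.Pos := by
    have h0 : C.HT F d ∈ Subgroup.normalizer (C.US F C.Pos : Set (GL D.Idx F)) :=
      C.diag_le_normalizer C.Pos (C.HT_mem_diagonal d)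
    have h := (Subgroup.mem_normalizer_iff.1 (inv_mem h0) u).1 hu
    rwa [inv_inv] at h
  obtain ⟨a, ha, v, hv, e⟩ := wprod_mul_US H L.length L rfl _ hu'
  refine ⟨L, x * C.HT F c * C.HT F d' * a, ?_, v, hv, ?_⟩
  · exact mul_mem (mul_mem (mul_mem hx (C.diagonal_le_borel (C.HT_mem_diagonal c)))
      (C.diagonal_le_borel (C.HT_mem_diagonal d'))) ha
  · calc x * (C.HT F c * C.wprod F L) * (u * C.HT F d)
        = x * C.HT F c * (C.wprod F L * C.HT F d) * ((C.HT F d)⁻¹ * u * C.HT F d) := by group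
      _ = x * C.HT F c * C.HT F d' * (C.wprod F L * ((C.HT F d)⁻¹ * u * C.HT F d)) := by
          rw [hd']; group
      _ = _ := by rw [e]; group

omit H

/-- For a fixed representative the two factors are determined. -/
theorem form_unique (L : List (Fin D.rank)) {b b' v v' : GL D.Idx F}
    (hb : b ∈ D.borelSubgroup F) (hb' : b' ∈ D.borelSubgroup F)
    (hv : v ∈ C.US F (C.inv' (C.pprod L))) (hv' : v' ∈ C.US F (C.inv' (C.pprod L)))
    (e : b * C.wprod F L * v = b' * C.wprod F L * v') : b = b' ∧ v = v' := by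
  have h1 : C.wprod F L * (v * v'⁻¹) * (C.wprod F L)⁻¹ ∈ C.US F C.Neg :=
    C.conj_mem_US F (C.acts_wprod F L) (fun r hr => hr.2) (mul_mem hv (inv_mem hv'))
  have h2 : b⁻¹ * b' = C.wprod F L * (v * v'⁻¹) * (C.wprod F L)⁻¹ := by
    rw [inv_mul_eq_iff_eq_mul]
    calc b' = b' * C.wprod F L * v' * v'⁻¹ * (C.wprod F L)⁻¹ := by group
      _ = _ := by rw [← e]; group
  have h3 : b⁻¹ * b' = 1 := by
    rw [← Subgroup.mem_bot, ← C.borel_inf_negUS]
    exact Subgroup.mem_inf.2 ⟨mul_mem (inv_mem hb) hb', h2 ▸ h1⟩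
  have hbb : b = b' := inv_mul_eq_one.1 h3
  subst hbb
  exact ⟨rfl, mul_left_cancel e⟩

include H

/-- An element of G normalizing U lies in B. -/
theorem mem_borel_of_normalizes {g : GL D.Idx F} (hg : g ∈ D.group F)
    (hn : ∀ u ∈ C.US F C.Pos, g * u * g⁻¹ ∈ C.US F C.Pos) : g ∈ D.borelSubgroup F := by
  obtain ⟨L, b, hb, v, hv, rfl⟩ := exists_form H hg
  have hvP : v ∈ C.US F C.Pos := C.US_mono F (fun r hr => hr.1) hv
  have hpos : ∀ r ∈ C.Pos, C.pprod L r ∈ C.Pos := by
    intro r hr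
    by_contra hneg
    have hneg' := (C.neg_iff_not_pos _).2 hneg
    obtain ⟨e, he⟩ := C.acts_wprod F L r
    have h1 := C.posUS_le_borel (hn _ (mul_mem (mul_mem (inv_mem hvP) (C.X_mem_US F hr 1)) hvP))
    have h2 : C.X F (C.pprod L r) ((e : F) * 1) ∈ D.borelSubgroup F := by
      have : C.X F (C.pprod L r) ((e : F) * 1) =
          b⁻¹ * (b * C.wprod F L * v * (v⁻¹ * C.X F r 1 * v) * (b * C.wprod F L * v)⁻¹) * b := by
        rw [← he]; group
      rw [this]
      exact mul_mem (mul_mem (inv_mem hb) h1) hb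
    exact absurd (C.X_neg_mem_borel hneg' h2) (by simp)
  have hσ : C.pprod L = 1 := by
    by_contra hne
    obtain ⟨i, hi⟩ := C.exists_descent hne
    exact (C.neg_iff_not_pos _).1 hi (hpos _ (C.p_pos i))
  obtain ⟨c, hc⟩ := C.wprod_eq_HT_of_pprod_eq_one F hσ
  rw [hc]
  exact mul_mem (mul_mem hb (C.diagonal_le_borel (C.HT_mem_diagonal c))) (C.posUS_le_borel hvP)

end Cfsg.Agent.Lib.ChevFixed
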