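import Cfsg.Agent.Lib.ChevFixed.Field
import Cfsg.Agent.Lib.ChevStructure.CommGL

/-! Inverse Cartan matrices of the tabulated data. -/

set_option autoImplicit false

namespace Cfsg.Agent.Lib.ChevFixed

open Cfsg.Lie Cfsg.Agent.Lib.ChevStructure

theorem invCartan_G2 : InvCartan chevG2 1 [[2, 1], [3, 2]] := by
  unfold InvCartan; decide +kernel

theorem invCartan_B2 : InvCartan chevB2 2 [[2, 1], [2, 2]] := by
  unfold InvCartan; decide +kernel

theorem invCartan_D4 : InvCartan chevD4 2 [[2, 2, 1, 1], [2, 4, 2, 2], [1, 2, 2, 1], [1, 2, 1, 2]] := by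
  unfold InvCartan; decide +kernel

theorem invCartan_F4 : InvCartan chevF4 1 [[2, 3, 2, 1], [3, 6, 4, 2], [4, 8, 6, 3], [2, 4, 3, 2]] := by
  unfold InvCartan; decide +kernel

theorem invCartan_E7 : InvCartan chevE7 2 [[4, 4, 6, 8, 6, 4, 2], [4, 7, 8, 12, 9, 6, 3],
    [6, 8, 12, 16, 12, 8, 4], [8, 12, 16, 24, 18, 12, 6], [6, 9, 12, 18, 15, 10, 5], [4, 6, 8, 12, 10, 8, 4],
    [2, 3, 4, 6, 5, 4, 3]] := by
  unfold InvCartan; decide +kernel

theorem invCartan_E8 : InvCartan chevE8 1 [[4, 5, 7, 10, 8, 6, 4, 2], [5, 8, 10, 15, 12, 9, 6, 3],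
    [7, 10, 14, 20, 16, 12, 8, 4], [10, 15, 20, 30, 24, 18, 12, 6], [8, 12, 16, 24, 20, 15, 10, 5],
    [6, 9, 12, 18, 15, 12, 8, 4], [4, 6, 8, 12, 10, 8, 6, 3], [2, 3, 4, 6, 5, 4, 3, 2]] := by
  unfold InvCartan; decide +kernel

end Cfsg.Agent.Lib.ChevFixed
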