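import Cfsg.Agent.Lib.ChevFixed.Cell
import Cfsg.Agent.Lib.ChevAut.Simple
import Cfsg.Prelude.Def_ChevAutomorphisms
import Mathlib.FieldTheory.Fixed
import Mathlib.FieldTheory.Finiteness
import Mathlib.Algebra.Field.TransferInstance

/-!
The fixed points of a field automorphism of a Chevalley group over a finite field form the group over
the fixed field, when the torus parametrisation is injective.
-/

set_option autoImplicit false
set_option linter.unusedSectionVars false

namespace Cfsg.Agent.Lib.ChevFixed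

open Cfsg.Lie Cfsg.Agent.Lib.ChevStructure
open scoped MatrixGroups Matrix

variable {D : ChevalleyDatum}

/-- `B` inverts the Cartan matrix up to the factor `d`. -/
def InvCartan (D : ChevalleyDatum) (d : ℕ) (B : List (List ℤ)) : Prop :=
  ∀ j k : Fin D.rank, ∑ m : Fin D.rank, D.cartan j.val (D.simple m.val) * (B.getD k.val []).getD m.val 0 =
    if j = k then (d : ℤ) else 0

theorem HT_injective (C : Core D) {d : ℕ} {B : List (List ℤ)} (hB : InvCartan D d B) {F : Type*}
    [CommRing F] (hd : ∀ x : Fˣ, x ^ d = 1 → x = 1) {c c' : Fin D.rank → Fˣ}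
    (h : C.HT F c = C.HT F c') : c = c' := by
  have key : ∀ (c : Fin D.rank → Fˣ) (k : Fin D.rank),
      ∏ m, C.chA c (C.p m) ^ (B.getD k.val []).getD m.val 0 = c k ^ d := by
    intro c k
    calc ∏ m, C.chA c (C.p m) ^ (B.getD k.val []).getD m.val 0
        = ∏ m, ∏ j, c j ^ (A D j (C.p m) * (B.getD k.val []).getD m.val 0) := by
          simp only [Core.chA, ← Finset.prod_zpow, ← zpow_mul]
      _ = ∏ j, c j ^ (∑ m, A D j (C.p m) * (B.getD k.val []).getD m.val 0) := by
          rw [Finset.prod_comm]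
          exact Finset.prod_congr rfl fun j _ => (C.zpow_fsum _ _ _).symm
      _ = ∏ j, c j ^ (if j = k then (d : ℤ) else 0) := by
          refine Finset.prod_congr rfl fun j _ => ?_
          rw [← hB j k]
          refine congrArg (c j ^ ·) (Finset.sum_congr rfl fun m _ => ?_)
          rw [C.simple_eq]; rfl
      _ = c k ^ d := by
          rw [Finset.prod_eq_single k (fun j _ hj => by simp [hj]) (by simp), if_pos rfl, zpow_natCast]
  have hch : ∀ s, C.chA c s = C.chA c' s := fun s => congrFun (C.diag_inj F h) s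
  funext k
  have e : c k ^ d = c' k ^ d := by rw [← key, ← key]; simp only [hch]
  refine mul_inv_eq_one.1 (hd _ ?_)
  rw [mul_pow, inv_pow, e, mul_inv_cancel]

variable (C : Core D)

section Maps

variable {R S : Type*} [CommRing R] [CommRing S] (f : R →+* S)

theorem map_HT (c : Fin D.rank → Rˣ) :
    Matrix.GeneralLinearGroup.map f (C.HT R c) = C.HT S (fun j => Units.map f.toMonoidHom (c j)) := by
  refine Units.ext ?_
  show ((C.HT R c : GL D.Idx R) : Matrix D.Idx D.Idx R).map f = _
  simp only [Core.HT, Core.diag]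
  rw [Matrix.diagonal_map (map_zero f)]
  refine congrArg Matrix.diagonal (funext fun x => ?_)
  rcases x with x | x
  · simp
  · simp only [Sum.elim_inr, Function.comp_apply]
    show f _ = _
    rw [show f _ = ((Units.map f.toMonoidHom (∏ j, c j ^ A D j x) : Sˣ) : S) from rfl, map_prod]
    simp only [map_zpow]

theorem map_P (i : Fin D.rank) : Matrix.GeneralLinearGroup.map f (C.P R i) = C.P S i := by
  simp only [Core.P, Core.nR, map_mul, C.X_map]
  simp

theorem map_wprod (L : List (Fin D.rank)) :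
    Matrix.GeneralLinearGroup.map f (C.wprod R L) = C.wprod S L := by
  simp only [Core.wprod, map_list_prod, List.map_map]
  exact congrArg List.prod (List.map_congr_left fun i _ => map_P C f i)

theorem map_wordX (L : List (Rt D)) (t : Rt D → R) :
    Matrix.GeneralLinearGroup.map f (C.wordX R L t) = C.wordX S L (fun r => f (t r)) := by
  simp only [Core.wordX, map_list_prod, List.map_map]
  exact congrArg List.prod (List.map_congr_left fun r _ => C.X_map R f r (t r))

theorem map_US_le (T : Set (Rt D)) :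
    (C.US R T).map (Matrix.GeneralLinearGroup.map f) ≤ C.US S T := by
  rw [Core.US, MonoidHom.map_closure, Subgroup.closure_le]
  rintro _ ⟨_, ⟨r, hr, t, rfl⟩, rfl⟩
  rw [C.X_map]
  exact C.X_mem_US S hr _

theorem map_injective (hf : Function.Injective f) :
    Function.Injective (Matrix.GeneralLinearGroup.map (n := D.Idx) f) := by
  intro a b h
  refine Units.ext (Matrix.map_injective hf ?_)
  exact congrArg Units.val h

end Maps

section Group

variable {K F : Type*} [Field K] [Field F]

include C in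
theorem map_group_le (f : K →+* F) :
    (D.group K).map (Matrix.GeneralLinearGroup.map f) ≤ D.group F := by
  rw [ChevalleyDatum.group, MonoidHom.map_closure, Subgroup.closure_le]
  rintro _ ⟨g, ⟨r, t, hg⟩, rfl⟩
  have e : g = C.X K r t := C.eq_X (by rw [hg, ChevalleyDatum.x, dif_pos r.isLt])
  rw [e, C.X_map]
  exact C.X_mem_group _ _

variable (H : CommOK C)

include H

/-- An element fixed by `σ` comes from the fixed field. -/
theorem mem_map_of_fixed (f : K →+* F) (σ : F →+* F) (hfix : ∀ x, σ x = x → ∃ y, f y = x)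
    (hinj : ∀ c c' : Fin D.rank → Fˣ, C.HT F c = C.HT F c' → c = c')
    {g : GL D.Idx F} (hg : g ∈ D.group F) (hσ : Matrix.GeneralLinearGroup.map σ g = g) :
    g ∈ (D.group K).map (Matrix.GeneralLinearGroup.map f) := by
  set M := (D.group K).map (Matrix.GeneralLinearGroup.map f)
  have hU : ∀ u ∈ C.US F C.Pos, Matrix.GeneralLinearGroup.map σ u = u → u ∈ M := by
    intro u hu hfu
    obtain ⟨t, rfl⟩ := H.exists_posWord F hu
    rw [map_wordX] at hfu
    have ht := C.wordX_unique F C.posL_sorted (fun r hr => C.mem_posL.1 hr) hfu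
    refine list_prod_mem fun x hx => ?_
    rw [List.mem_map] at hx
    obtain ⟨r, hr, rfl⟩ := hx
    obtain ⟨y, hy⟩ := hfix _ (ht r hr)
    exact ⟨C.X K r y, C.X_mem_group r y, by rw [C.X_map, hy]⟩
  obtain ⟨L, b, hb, v, hv, rfl⟩ := exists_form H hg
  obtain ⟨u, hu, k, hk, rfl⟩ := C.mem_borel_iff.1 hb
  obtain ⟨c, rfl⟩ := C.mem_diagonal_iff.1 hk
  simp only [map_mul, map_wprod, map_HT] at hσ
  set c' : Fin D.rank → Fˣ := fun j => Units.map σ.toMonoidHom (c j)
  have hu' : Matrix.GeneralLinearGroup.map σ u ∈ C.US F C.Pos := map_US_le C σ _ ⟨u, hu, rfl⟩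
  have hv' : Matrix.GeneralLinearGroup.map σ v ∈ C.US F (C.inv' (C.pprod L)) :=
    map_US_le C σ _ ⟨v, hv, rfl⟩
  obtain ⟨e1, e2⟩ := form_unique L (mul_mem (C.posUS_le_borel hu')
    (C.diagonal_le_borel (C.HT_mem_diagonal c'))) hb hv' hv hσ
  have e3 : u⁻¹ * Matrix.GeneralLinearGroup.map σ u = C.HT F c * (C.HT F c')⁻¹ := by
    rw [eq_mul_inv_iff_mul_eq, mul_assoc, e1, inv_mul_cancel_left]
  have e4 : u⁻¹ * Matrix.GeneralLinearGroup.map σ u = 1 := by
    rw [← Subgroup.mem_bot, ← C.US_inf_diagonal]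
    refine Subgroup.mem_inf.2 ⟨mul_mem (inv_mem hu) hu', ?_⟩
    rw [e3]
    exact mul_mem (C.HT_mem_diagonal c) (inv_mem (C.HT_mem_diagonal c'))
  have e5 : c' = c := hinj _ _ (inv_mul_eq_one.1 (by
    have := e3.symm.trans e4
    rw [mul_inv_eq_one] at this
    rw [this, inv_mul_cancel]))
  refine mul_mem (mul_mem (mul_mem (hU u hu (inv_mul_eq_one.1 e4).symm) ?_) ?_)
    (hU v (C.US_mono F (fun r hr => hr.1) hv) e2)
  · have hc : ∀ j, ∃ y : Kˣ, Units.map f.toMonoidHom y = c j := by
      intro j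
      obtain ⟨y, hy⟩ := hfix (c j : F) (congrArg Units.val (congrFun e5 j))
      have hy0 : y ≠ 0 := fun h0 => (c j).ne_zero (by rw [← hy, h0, map_zero])
      exact ⟨Units.mk0 y hy0, Units.ext hy⟩
    choose c₀ hc₀ using hc
    exact ⟨C.HT K c₀, C.HT_mem_group c₀, by rw [map_HT, funext hc₀]⟩
  · exact ⟨C.wprod K L, C.monomial_le_group (C.wprod_mem_monomial L), map_wprod C f L⟩

end Group

section FieldAut

variable {F : Type*} [Field F]

open Cfsg.Agent.Lib.ChevAut (GX GX_mat closure_GX eq_GX)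

theorem fieldAut_GX {φ : MulAut ↥(D.group F)} {σ : F ≃+* F}
    (hσ : ∀ (g : ↥(D.group F)) (r : ℕ) (t : F), r < D.nroots →
      ((g : GL D.Idx F) : Matrix D.Idx D.Idx F) = D.x F r t →
        ((φ g : GL D.Idx F) : Matrix D.Idx D.Idx F) = D.x F r (σ t)) (r : Rt D) (t : F) :
    φ (GX C F r t) = GX C F r (σ t) :=
  eq_GX C F (hσ _ r.val t r.isLt (GX_mat C F r t))

theorem coe_fieldAut {φ : MulAut ↥(D.group F)} {σ : F ≃+* F}
    (hσ : ∀ r t, φ (GX C F r t) = GX C F r (σ t)) (g : ↥(D.group F)) :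
    (φ g : GL D.Idx F) = Matrix.GeneralLinearGroup.map σ.toRingHom (g : GL D.Idx F) := by
  have h : (D.group F).subtype.comp φ.toMonoidHom =
      (Matrix.GeneralLinearGroup.map σ.toRingHom).comp (D.group F).subtype := by
    refine MonoidHom.eq_of_eqOn_dense (closure_GX C F) ?_
    rintro _ ⟨⟨r, t⟩, rfl⟩
    simp only [MonoidHom.comp_apply, MulEquiv.coe_toMonoidHom, hσ, Subgroup.subtype_apply]
    exact (C.X_map F σ.toRingHom r t).symm
  exact DFunLike.congr_fun h g

theorem pow_GX {φ : MulAut ↥(D.group F)} {σ : F ≃+* F}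
    (hσ : ∀ r t, φ (GX C F r t) = GX C F r (σ t)) :
    ∀ (n : ℕ) (r : Rt D) (t : F), (φ ^ n) (GX C F r t) = GX C F r ((σ ^ n) t)
  | 0, _, _ => rfl
  | n + 1, r, t => by
    rw [pow_succ', MulAut.mul_apply, pow_GX hσ n, hσ, pow_succ']
    rfl

theorem orderOf_eq {φ : MulAut ↥(D.group F)} {σ : F ≃+* F}
    (hσ : ∀ r t, φ (GX C F r t) = GX C F r (σ t)) : orderOf φ = orderOf σ := by
  refine orderOf_eq_orderOf_iff.2 fun n => ⟨fun h => ?_, fun h => ?_⟩
  · refine RingEquiv.ext fun t => ?_
    set r : Rt D := C.p ⟨0, C.rank_pos⟩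
    have e : GX C F r ((σ ^ n) t) = GX C F r t := by
      rw [← pow_GX C hσ, h, MulAut.one_apply]
    have e' : C.X F r ((σ ^ n) t) = C.X F r t := congrArg Subtype.val e
    refine sub_eq_zero.1 (C.X_eq_one (r := r) ?_)
    rw [sub_eq_add_neg, ← C.X_add, e', C.X_add, ← sub_eq_add_neg]
    simp [C.X_zero]
  · refine MulEquiv.toMonoidHom_injective (MonoidHom.eq_of_eqOn_dense (closure_GX C F) ?_)
    rintro _ ⟨⟨r, t⟩, rfl⟩
    simp only [MulEquiv.coe_toMonoidHom, pow_GX C hσ, h, MulAut.one_apply]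
    rfl

/-- Fixed points of a field automorphism. -/
theorem fieldAut_fixed [Fintype F] (H : CommOK C)
    (hinj : ∀ c c' : Fin D.rank → Fˣ, C.HT F c = C.HT F c' → c = c')
    (φ : MulAut ↥(D.group F)) (hφ : D.IsFieldAut φ) :
    ∃ (F₀ : Type) (_ : Field F₀) (_ : Fintype F₀), Fintype.card F = Fintype.card F₀ ^ orderOf φ ∧
      Nonempty (↥((MulEquiv.toMonoidHom φ).eqLocus (MonoidHom.id ↥(D.group F))) ≃* ↥(D.group F₀)) := by
  classical
  obtain ⟨σ, hσ'⟩ := hφ
  have hσ := fieldAut_GX C hσ'
  let G : Subgroup (F ≃+* F) := Subgroup.zpowers σ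
  have : Finite (F ≃+* F) := Finite.of_injective (fun s : F ≃+* F => (s : F → F)) DFunLike.coe_injective
  let K := FixedPoints.subfield G F
  let e : Fin (Fintype.card K) ≃ K := (Fintype.equivFin K).symm
  letI : Field (Fin (Fintype.card K)) := e.field
  let f : Fin (Fintype.card K) →+* F := K.subtype.comp (Equiv.ringEquiv e).toRingHom
  refine ⟨Fin (Fintype.card K), inferInstance, inferInstance, ?_, ?_⟩
  · have : Fintype G := Fintype.ofFinite _
    rw [Fintype.card_fin, orderOf_eq C hσ, ← Nat.card_zpowers, Nat.card_eq_fintype_card]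
    have h := Module.card_eq_pow_finrank (K := K) (V := F)
    rw [FixedPoints.finrank_eq_card G F] at h
    exact h
  have hfix : ∀ x, σ x = x → ∃ y, f y = x := by
    intro x hx
    have hxK : x ∈ K := by
      intro m
      have h1 : G ≤ MulAction.stabilizer (F ≃+* F) x := Subgroup.zpowers_le.2 hx
      exact h1 m.2
    exact ⟨e.symm ⟨x, hxK⟩, congrArg Subtype.val (e.apply_symm_apply ⟨x, hxK⟩)⟩
  have hff : ∀ y, σ (f y) = f y := fun y => (e y).2 ⟨σ, Subgroup.mem_zpowers σ⟩
  have hfinj : Function.Injective f := fun a b h => e.injective (Subtype.ext h)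
  have hσf : ∀ h, Matrix.GeneralLinearGroup.map σ.toRingHom (Matrix.GeneralLinearGroup.map (n := D.Idx) f h) =
      Matrix.GeneralLinearGroup.map f h := fun h => Units.ext (Matrix.ext fun i j => hff _)
  have hmem : ∀ h : ↥(D.group (Fin (Fintype.card K))),
      Matrix.GeneralLinearGroup.map f (h : GL D.Idx _) ∈ D.group F := fun h =>
    map_group_le C f ⟨_, h.2, rfl⟩
  let ψ : ↥(D.group (Fin (Fintype.card K))) →* ↥(D.group F) :=
    ((Matrix.GeneralLinearGroup.map f).comp (D.group _).subtype).codRestrict (D.group F) hmem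
  have hψ : Function.Injective ψ := fun a b h =>
    Subtype.ext (map_injective f hfinj (congrArg Subtype.val h))
  have hrange : ψ.range = (MulEquiv.toMonoidHom φ).eqLocus (MonoidHom.id ↥(D.group F)) := by
    ext g
    constructor
    · rintro ⟨h, rfl⟩
      show φ (ψ h) = ψ h
      exact Subtype.ext ((coe_fieldAut C hσ (ψ h)).trans (hσf _))
    · intro hg
      have hg' : φ g = g := hg
      obtain ⟨h, hh, e'⟩ := mem_map_of_fixed C H f σ.toRingHom hfix hinj g.2
        (by rw [← coe_fieldAut C hσ, hg'])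
      exact ⟨⟨h, hh⟩, Subtype.ext e'⟩
  exact ⟨((MonoidHom.ofInjective hψ).trans (MulEquiv.subgroupCongr hrange)).symm⟩

end FieldAut

end Cfsg.Agent.Lib.ChevFixed
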